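import Cfsg.Agent.CpAutRee.PslThree
import Cfsg.Agent.Walter.FieldPSL
import Cfsg.Agent.Lib.FieldAutCard
import Cfsg.Agent.LieRecognition.FieldSemilinear

/-!
# Field automorphisms of `PSL(2, F)`: squares, fixed elements, fixed points (for S3530)
-/

set_option autoImplicit false
set_option linter.unusedSectionVars false

namespace Cfsg.Agent.H984.S3530

open Matrix
open Cfsg.Agent.ClassicalGeometry
open Cfsg.Agent.ClassicalGeometry.AutPSL.Root
open Cfsg.Agent.ClassicalGeometry.AutPSL.Auto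
open Cfsg.Agent.Walter.FieldPSL
open Cfsg.Agent.CpAutRee.PslThree

variable {F : Type*} [Field F]

/-- `d σ(d)` is a square -/
theorem isSquare_mul_aut [Fintype F] (σ : F ≃+* F) {d : F} (hd : d ≠ 0) : IsSquare (d * σ d) := by
  by_cases h2 : ringChar F = 2
  · exact FiniteField.isSquare_of_char_two h2 _
  have hσd : σ d ≠ 0 := fun h => hd ((map_eq_zero σ).1 h)
  rw [FiniteField.isSquare_iff h2 (mul_ne_zero hd hσd), mul_pow, ← map_pow]
  rcases FiniteField.pow_dichotomy h2 hd with h | h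
  · rw [h, map_one, one_mul]
  · rw [h, map_neg, map_one]; ring

/-- The square of an automorphism is inner times a field automorphism. -/
theorem exists_sq [Fintype F] (α : MulAut (Matrix.ProjectiveSpecialLinearGroup (Fin 2) F)) :
    ∃ (g : Matrix.ProjectiveSpecialLinearGroup (Fin 2) F) (σ : F ≃+* F),
      α * α = MulAut.conj g * lift (fld σ) := by
  obtain ⟨p, hp⟩ := CharP.exists F
  have hpp : Fact p.Prime := ⟨CharP.char_is_prime F p⟩
  obtain ⟨A, σ, rfl⟩ := AutPSL.Main.surj_two p α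
  have hA0 : (A : Matrix (Fin 2) (Fin 2) F).det ≠ 0 :=
    ((Matrix.isUnit_iff_isUnit_det _).1 A.isUnit).ne_zero
  obtain ⟨c, hc⟩ := isSquare_mul_aut σ hA0
  have h1 : cj A * fld σ * (cj A * fld σ) = cj (A * gm σ A) * fld (σ * σ) := by
    rw [mul_assoc (cj A), ← mul_assoc (fld σ), fld_mul_cj, map_mul cj, map_mul fld]
    simp only [mul_assoc]
  obtain ⟨g, hg⟩ := lift_cj_inner (A := A * gm σ A) (c := c) (by
    rw [Units.val_mul, Matrix.det_mul, coe_gm]
    have : ((A : Matrix (Fin 2) (Fin 2) F).map σ).det = σ (A : Matrix (Fin 2) (Fin 2) F).det :=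
      (RingHom.map_det (σ : F →+* F) _).symm
    rw [this, hc, pow_two])
  refine ⟨g, σ * σ, ?_⟩
  rw [← map_mul, h1, map_mul, hg]

/-- An inner automorphism is not a nontrivial field automorphism. -/
theorem conj_eq_one_of_fld {g : Matrix.ProjectiveSpecialLinearGroup (Fin 2) F} {σ : F ≃+* F}
    (h : MulAut.conj g = lift (fld σ)) : MulAut.conj g = 1 := by
  obtain ⟨x, rfl⟩ := pr_surjective g
  let C : GL (Fin 2) F := Matrix.SpecialLinearGroup.toGL x
  have h1 : MulAut.conj (pr x) = lift (cj C * fld (1 : F ≃+* F)) := by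
    rw [map_one fld, mul_one]
    apply MulEquiv.ext
    intro y
    obtain ⟨y, rfl⟩ := pr_surjective y
    rw [MulAut.conj_apply, lift_pr, ← map_inv, ← map_mul, ← map_mul]
    rfl
  rw [h1] at h
  obtain ⟨-, h2⟩ := AutPSL.Main.injective_aux h
  rw [h1, h, ← h2, map_one, map_one]

/-! ### fixed elements -/

/-- the element of order 3 -/
def T3 : Matrix.SpecialLinearGroup (Fin 2) F := ⟨!![0, 1; -1, -1], by simp [det_fin_two]⟩

theorem fld_T3 (σ : F ≃+* F) : fld σ T3 = T3 := by
  apply Subtype.ext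
  ext i j
  rw [coe_fld_apply]
  fin_cases i <;> fin_cases j <;> simp [T3]

theorem orderOf_T3 : orderOf (pr (T3 : Matrix.SpecialLinearGroup (Fin 2) F)) = 3 := by
  refine orderOf_eq_prime ?_ ?_
  · rw [← map_pow]
    have : (T3 : Matrix.SpecialLinearGroup (Fin 2) F) ^ 3 = 1 := by
      apply Subtype.ext
      rw [Matrix.SpecialLinearGroup.coe_pow, pow_three, Matrix.SpecialLinearGroup.coe_one]
      ext i j
      fin_cases i <;> fin_cases j <;> simp [T3, Matrix.mul_apply, Fin.sum_univ_two]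
    rw [this, map_one]
  · intro h
    rw [← map_one pr, pr_eq_iff] at h
    rcases h with h | h
    · have := congrFun (congrFun (congrArg Subtype.val h) 0) 1
      simp [T3] at this
    · have := congrFun (congrFun (congrArg Subtype.val h) 0) 1
      simp [T3] at this

/-- the element `(1 + i + j + k) / 2` -/
def H3 (h2 : (2 : F) ≠ 0) (a b : F) (h : a ^ 2 + b ^ 2 = -1) : Matrix.SpecialLinearGroup (Fin 2) F :=
  ⟨!![(1 + a + b) * 2⁻¹, (1 + b - a) * 2⁻¹; (-1 + b - a) * 2⁻¹, (1 - a - b) * 2⁻¹], by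
    rw [det_fin_two_of]
    have hi : (2 : F)⁻¹ * 2 = 1 := inv_mul_cancel₀ h2
    linear_combination (-2 * (2 : F)⁻¹ * 2⁻¹) * h + (1 + 2⁻¹ * 2) * hi⟩

theorem fld_H3 (h2 : (2 : F) ≠ 0) (σ : F ≃+* F) {a b : F} (h : a ^ 2 + b ^ 2 = -1) (ha : σ a = a) (hb : σ b = b) :
    fld σ (H3 h2 a b h) = H3 h2 a b h := by
  apply Subtype.ext
  ext i j
  rw [coe_fld_apply]
  have hσ2 : σ 2 = 2 := map_ofNat σ 2
  fin_cases i <;> fin_cases j <;> simp [H3, ha, hb, hσ2]

theorem H3_I (h2 : (2 : F) ≠ 0) {a b : F} (h : a ^ 2 + b ^ 2 = -1) :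
    H3 h2 a b h * I = Walter.FieldPSL.J a b h * H3 h2 a b h := by
  apply Subtype.ext
  rw [Matrix.SpecialLinearGroup.coe_mul, Matrix.SpecialLinearGroup.coe_mul]
  ext i j
  fin_cases i <;> fin_cases j <;> simp [H3, I, Walter.FieldPSL.J, Matrix.mul_apply, Fin.sum_univ_two]
  · linear_combination (-2⁻¹) * h
  · linear_combination (2⁻¹) * h
  · linear_combination (-2⁻¹) * h
  · linear_combination (-2⁻¹) * h

theorem H3_J (h2 : (2 : F) ≠ 0) {a b : F} (h : a ^ 2 + b ^ 2 = -1) :
    H3 h2 a b h * Walter.FieldPSL.J a b h = I * Walter.FieldPSL.J a b h * H3 h2 a b h := by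
  apply Subtype.ext
  rw [Matrix.SpecialLinearGroup.coe_mul, Matrix.SpecialLinearGroup.coe_mul, Matrix.SpecialLinearGroup.coe_mul]
  ext i j
  fin_cases i <;> fin_cases j <;> simp [H3, I, Walter.FieldPSL.J, Matrix.mul_apply, Fin.sum_univ_two]
  all_goals ring

theorem H3_sq (h2 : (2 : F) ≠ 0) {a b : F} (h : a ^ 2 + b ^ 2 = -1) :
    (H3 h2 a b h).1 * (H3 h2 a b h).1 = (H3 h2 a b h).1 - 1 := by
  have hi : (2 : F)⁻¹ * 2 = 1 := inv_mul_cancel₀ h2
  ext i j
  fin_cases i <;> fin_cases j <;> simp [H3, Matrix.mul_apply, Fin.sum_univ_two]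
  · linear_combination (2 * (2 : F)⁻¹ * 2⁻¹) * h + (2⁻¹ * (a + b) - 1 - 2⁻¹) * hi
  · linear_combination (2⁻¹ * (1 + b - a)) * hi
  · linear_combination (2⁻¹ * (-1 + b - a)) * hi
  · linear_combination (2 * (2 : F)⁻¹ * 2⁻¹) * h + (2⁻¹ * (- a - b) - 1 - 2⁻¹) * hi

theorem orderOf_H3 (h2 : (2 : F) ≠ 0) {a b : F} (h : a ^ 2 + b ^ 2 = -1) : orderOf (pr (H3 h2 a b h)) = 3 := by
  refine orderOf_eq_prime ?_ ?_
  · rw [← map_pow]
    have h3 : H3 h2 a b h ^ 3 = -1 := by
      apply Subtype.ext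
      rw [Matrix.SpecialLinearGroup.coe_pow, pow_three, Matrix.SpecialLinearGroup.coe_neg,
        Matrix.SpecialLinearGroup.coe_one, H3_sq, mul_sub, H3_sq, mul_one]
      abel
    rw [h3, ← map_one pr, pr_eq_iff]
    right
    rfl
  · intro h1
    rw [← map_one pr, pr_eq_iff] at h1
    have h3 : (1 + b - a) * (2 : F)⁻¹ = 0 ∧ (-1 + b - a) * (2 : F)⁻¹ = 0 := by
      rcases h1 with h1 | h1
      · have e1 := congrFun (congrFun (congrArg Subtype.val h1) 0) 1
        have e2 := congrFun (congrFun (congrArg Subtype.val h1) 1) 0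
        simp only [H3, Matrix.of_apply, cons_val', cons_val_one, cons_val_zero, cons_val_fin_one,
          Matrix.SpecialLinearGroup.coe_one, ne_eq, zero_ne_one, one_ne_zero, not_false_eq_true, one_apply_ne] at e1 e2
        exact ⟨e1, e2⟩
      · have e1 := congrFun (congrFun (congrArg Subtype.val h1) 0) 1
        have e2 := congrFun (congrFun (congrArg Subtype.val h1) 1) 0
        simp only [H3, Matrix.of_apply, cons_val', cons_val_one, cons_val_zero, cons_val_fin_one,
          Matrix.SpecialLinearGroup.coe_neg, Matrix.neg_apply,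
          Matrix.SpecialLinearGroup.coe_one, ne_eq, zero_ne_one, one_ne_zero, not_false_eq_true, one_apply_ne,
          neg_zero] at e1 e2
        exact ⟨e1, e2⟩
    obtain ⟨e1, e2⟩ := h3
    have hi : (2 : F)⁻¹ * 2 = 1 := inv_mul_cancel₀ h2
    have : (1 : F) = 0 := by linear_combination e1 - e2 - hi
    exact one_ne_zero this

/-- **The fixed points of a field automorphism of odd order**, all characteristics. -/
theorem mem_range_pincl {σ : F ≃+* F} {m : ℕ} (hm : Odd m) (hσ : σ ^ m = 1)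
    (x : Matrix.ProjectiveSpecialLinearGroup (Fin 2) F) :
    x ∈ (pincl (Fix σ)).range ↔ lift (fld σ) x = x := by
  by_cases h2 : (2 : F) = 0
  · constructor
    · rintro ⟨y, rfl⟩
      obtain ⟨y, rfl⟩ := pr_surjective y
      rw [pincl_pr, lift_pr]
      congr 1
      apply Subtype.ext
      ext i j
      rw [coe_fld_apply, coe_incl]
      exact mem_Fix.1 (y.1 i j).2
    · intro h
      obtain ⟨x, rfl⟩ := pr_surjective x
      rw [lift_pr, pr_eq_iff] at h
      have hneg : -x = x := by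
        apply Subtype.ext
        rw [Matrix.SpecialLinearGroup.coe_neg]
        ext i j
        rw [Matrix.neg_apply]
        linear_combination (-(x.1 i j)) * h2
      rw [hneg, or_self] at h
      have h8 : ∀ i j, σ (x.1 i j) = x.1 i j := by
        intro i j
        have := congrFun (congrFun (congrArg Subtype.val h) i) j
        rw [coe_fld_apply] at this
        exact this
      let y : Matrix.SpecialLinearGroup (Fin 2) (Fix σ) :=
        ⟨Matrix.of (fun i j => (⟨x.1 i j, mem_Fix.2 (h8 i j)⟩ : Fix σ)), by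
          have e := x.2
          rw [det_fin_two] at e
          rw [det_fin_two]
          apply Subtype.ext
          exact e⟩
      refine ⟨pr y, ?_⟩
      rw [pincl_pr]
      congr 1
  · exact mem_range_pincl_iff h2 hm hσ x

/-! ### abstract four-group -/

section four

variable {P : Type*} [Group P]

/-- a four-group normalised by an element of order 3 -/
structure Four (u v h : P) : Prop where
  uu : u * u = 1
  vv : v * v = 1
  uv : u * v = v * u
  u1 : u ≠ 1
  v1 : v ≠ 1
  ne : u ≠ v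
  hu : h * u = v * h
  hv : h * v = u * v * h
  h3 : orderOf h = 3

/-- the four-group -/
def Four.U {u v h : P} (H : Four u v h) : Subgroup P where
  carrier := {x | x = 1 ∨ x = u ∨ x = v ∨ x = u * v}
  one_mem' := Or.inl rfl
  mul_mem' := by
    have e1 : u * (u * v) = v := by rw [← mul_assoc, H.uu, one_mul]
    have e2 : v * (u * v) = u := by rw [H.uv, ← mul_assoc, H.vv, one_mul]
    have e3 : u * v * u = v := by rw [H.uv, mul_assoc, H.uu, mul_one]
    have e4 : u * v * v = u := by rw [mul_assoc, H.vv, mul_one]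
    have e5 : u * v * (u * v) = 1 := by rw [mul_assoc, e2, H.uu]
    have e6 : v * u = u * v := H.uv.symm
    rintro x y (rfl | rfl | rfl | rfl) (rfl | rfl | rfl | rfl) <;>
      simp [H.uu, H.vv, e1, e2, e3, e4, e5, e6]
  inv_mem' := by
    have i1 : u⁻¹ = u := inv_eq_of_mul_eq_one_left H.uu
    have i2 : v⁻¹ = v := inv_eq_of_mul_eq_one_left H.vv
    rintro x (rfl | rfl | rfl | rfl)
    · simp
    · rw [i1]; simp
    · rw [i2]; simp
    · rw [_root_.mul_inv_rev, i1, i2, ← H.uv]; simp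

theorem Four.mem_U {u v h : P} (H : Four u v h) {x : P} : x ∈ H.U ↔ x = 1 ∨ x = u ∨ x = v ∨ x = u * v := Iff.rfl

theorem Four.isPGroup {u v h : P} (H : Four u v h) : IsPGroup 2 H.U := by
  rintro ⟨x, hx⟩
  refine ⟨1, Subtype.ext ?_⟩
  show x ^ 2 ^ 1 = 1
  rw [pow_one, pow_two]
  rcases hx with rfl | rfl | rfl | rfl
  · rw [mul_one]
  · exact H.uu
  · exact H.vv
  · rw [mul_assoc, H.uv, ← mul_assoc v v u, H.vv, one_mul, H.uu]

theorem Four.conj_u {u v h : P} (H : Four u v h) : h * u * h⁻¹ = v := by rw [H.hu, mul_inv_cancel_right]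

theorem Four.conj_v {u v h : P} (H : Four u v h) : h * v * h⁻¹ = u * v := by rw [H.hv, mul_inv_cancel_right]

theorem Four.conj_uv {u v h : P} (H : Four u v h) : h * (u * v) * h⁻¹ = u := by
  have : h * (u * v) * h⁻¹ = (h * u * h⁻¹) * (h * v * h⁻¹) := by group
  rw [this, H.conj_u, H.conj_v, H.uv, ← mul_assoc, H.vv, one_mul]

theorem Four.conj_mem {u v h : P} (H : Four u v h) {x : P} (hx : x ∈ H.U) : h * x * h⁻¹ ∈ H.U := by
  rw [H.mem_U] at hx ⊢
  rcases hx with rfl | rfl | rfl | rfl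
  · left; group
  · rw [H.conj_u]; simp
  · rw [H.conj_v]; simp
  · rw [H.conj_uv]; simp

theorem Four.conj_mem_iff {u v h : P} (H : Four u v h) {x : P} : x ∈ H.U ↔ h * x * h⁻¹ ∈ H.U := by
  refine ⟨H.conj_mem, fun hx => ?_⟩
  have h3 : h * h * h = 1 := by
    have := pow_orderOf_eq_one h
    rwa [H.h3, pow_three, ← mul_assoc] at this
  have h5 := H.conj_mem (H.conj_mem hx)
  have : h * (h * (h * x * h⁻¹) * h⁻¹) * h⁻¹ = (h * h * h) * x * (h * h * h)⁻¹ := by group
  rw [this, h3, one_mul, inv_one, mul_one] at h5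
  exact h5

theorem Four.eq_one_of_comm {u v h : P} (H : Four u v h) {x : P} (hx : x ∈ H.U) (hc : h * x * h⁻¹ = x) : x = 1 := by
  rw [H.mem_U] at hx
  rcases hx with rfl | rfl | rfl | rfl
  · rfl
  · rw [H.conj_u] at hc
    exact absurd hc.symm H.ne
  · rw [H.conj_v] at hc
    exact absurd (mul_eq_right.1 hc) H.u1
  · rw [H.conj_uv] at hc
    exact absurd (left_eq_mul.1 hc) H.v1

end four

theorem four (h2 : (2 : F) ≠ 0) {a b : F} (h : a ^ 2 + b ^ 2 = -1) :
    Four (pr I) (pr (Walter.FieldPSL.J a b h)) (pr (H3 h2 a b h)) where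
  uu := pr_I_sq
  vv := pr_J_sq h
  uv := pr_IJ h
  u1 := pr_I_ne
  v1 := pr_J_ne h2 h
  ne := pr_IJ_ne h2 h
  hu := by rw [← map_mul, ← map_mul, H3_I]
  hv := by rw [← map_mul, ← map_mul, ← map_mul, H3_J]
  h3 := orderOf_H3 h2 h

end Cfsg.Agent.H984.S3530
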