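import Cfsg.Agent.H389.R.Def
import Cfsg.Agent.H984.S3530.PslFix

/-!
# S3530: odd extensions of `PSL(2, u)`
-/

set_option autoImplicit false
set_option linter.unusedSectionVars false

namespace Cfsg.Agent.H984.S3530

open Subgroup
open Cfsg.Agent.ClassicalGeometry
open Cfsg.Agent.ClassicalGeometry.AutPSL.Root
open Cfsg.Agent.ClassicalGeometry.AutPSL.Auto
open Cfsg.Agent.Walter.FieldPSL

section act

variable {Y P : Type*} [Group Y] [Group P] {K : Subgroup Y} [K.Normal]

/-- the inclusion -/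
def inc (φ : K ≃* P) : P →* Y := K.subtype.comp φ.symm.toMonoidHom

/-- the action -/
def act (φ : K ≃* P) : Y →* MulAut P := (MulAut.congr φ).toMonoidHom.comp MulAut.conjNormal

theorem inc_act (φ : K ≃* P) (y : Y) (p : P) : inc φ (act φ y p) = y * inc φ p * y⁻¹ := by
  show ((φ.symm (φ (MulAut.conjNormal y (φ.symm p))) : K) : Y) = y * ((φ.symm p : K) : Y) * y⁻¹
  rw [MulEquiv.symm_apply_apply, MulAut.conjNormal_apply]

theorem inc_injective (φ : K ≃* P) : Function.Injective (inc φ) := by
  intro p p' h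
  exact φ.symm.injective (Subtype.ext h)

theorem inc_mem (φ : K ≃* P) (p : P) : inc φ p ∈ K := (φ.symm p).2

theorem exists_inc (φ : K ≃* P) {k : Y} (hk : k ∈ K) : ∃ p, inc φ p = k :=
  ⟨φ ⟨k, hk⟩, by
    show ((φ.symm (φ ⟨k, hk⟩) : K) : Y) = k
    rw [MulEquiv.symm_apply_apply]⟩

theorem act_inc (φ : K ≃* P) (p : P) : act φ (inc φ p) = MulAut.conj p := by
  apply MulEquiv.ext
  intro p'
  apply inc_injective φ
  rw [inc_act, MulAut.conj_apply, map_mul, map_mul, map_inv]

theorem act_injective (φ : K ≃* P) (hc : centralizer (K : Set Y) = ⊥) : Function.Injective (act φ) := by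
  rw [injective_iff_map_eq_one]
  intro y hy
  have : y ∈ centralizer (K : Set Y) := by
    rw [mem_centralizer_iff]
    intro k hk
    obtain ⟨p, rfl⟩ := exists_inc φ hk
    have h1 := inc_act φ y p
    rw [hy, MulAut.one_apply] at h1
    conv_lhs => rw [h1]
    group
  rw [hc] at this
  exact this

end act

end Cfsg.Agent.H984.S3530

namespace Cfsg.Agent.H389.RSq

open Subgroup
open Cfsg.Agent.H389.JSq (Has)

universe u v

open Cfsg.Agent.ClassicalGeometry
open Cfsg.Agent.ClassicalGeometry.AutPSL.Root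
open Cfsg.Agent.ClassicalGeometry.AutPSL.Auto
open Cfsg.Agent.Walter.FieldPSL
open Cfsg.Agent.H984.S3530

theorem l2_ext {s f : ℕ} {Y : Type u} [Group Y] [Finite Y] {K : Subgroup Y} [K.Normal] (h : IsL2 s f K)
    (hc : centralizer (K : Set Y) = ⊥) (hodd : Odd K.index) :
    ∃ A : Subgroup Y, IsCyclic A ∧ A ⊓ K = ⊥ ∧ A ⊔ K = ⊤ ∧ Nat.card A ∣ f ∧
      (∃ z ∈ K, orderOf z = 3 ∧ A ≤ centralizer {z}) ∧
      (s ≠ 2 → ∃ (U : Subgroup Y) (h : Y), IsPGroup 2 U ∧ U ≠ ⊥ ∧ U ≤ K ∧ h ∈ K ∧ h ∈ normalizer (U : Set Y) ∧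
        orderOf h = 3 ∧ U ⊓ centralizer {h} = ⊥ ∧ A ≤ centralizer {h} ∧ A ≤ centralizer (U : Set Y)) ∧
      (∀ r : ℕ, r.Prime → ∀ a ∈ A, orderOf a = r → IsPSL s (f / r) (K ⊓ centralizer {a} : Subgroup Y)) := by
  obtain ⟨⟨hs, F, iF, iFF, hF, ⟨φ⟩⟩, hfodd, -, -⟩ := h
  have hsp : Fact s.Prime := ⟨hs⟩
  have hf1 : 1 ≤ f := hfodd.pos
  have hcard := Lib.FieldAutCard.card_ringAut (F := F) hf1 hF
  have hcyc := LieRecognition.FieldSemilinear.isCyclic_ringAut F
  have hinj := act_injective φ hc
  -- the complement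
  let Θ : (F ≃+* F) →* MulAut (Matrix.ProjectiveSpecialLinearGroup (Fin 2) F) := lift.comp (fld (ι := Fin 2))
  have hΘ : Function.Injective Θ := fun σ τ hστ => lift_fld_injective hστ
  let A : Subgroup Y := (Θ.range).comap (act φ)
  have hA : ∀ a : Y, a ∈ A ↔ ∃ σ, Θ σ = act φ a := fun a => Iff.rfl
  choose! τ hτ using fun (a : Y) (ha : a ∈ A) => (hA a).1 ha
  let T : A →* (F ≃+* F) :=
    { toFun := fun a => τ a
      map_one' := hΘ (by
        have h1 := hτ _ A.one_mem
        rw [map_one (act φ)] at h1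
        rw [map_one Θ]
        exact h1)
      map_mul' := fun a b => hΘ (by
        rw [map_mul, hτ _ a.2, hτ _ b.2, ← map_mul]
        exact hτ _ (A.mul_mem a.2 b.2)) }
  have hTinj : Function.Injective T := by
    intro a b hab
    apply Subtype.ext
    apply hinj
    rw [← hτ _ a.2, ← hτ _ b.2]
    exact congrArg Θ hab
  -- elements of `A` centralise the fixed points
  have hfix : ∀ a ∈ A, ∀ p, (∀ σ : F ≃+* F, Θ σ p = p) → a * inc φ p * a⁻¹ = inc φ p := by
    intro a ha p hp
    rw [← inc_act, ← hτ a ha, hp]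
  have hfix' : ∀ p, (∀ σ : F ≃+* F, Θ σ p = p) → A ≤ centralizer {inc φ p} := by
    intro p hp a ha
    rw [mem_centralizer_singleton_iff]
    exact mul_inv_eq_iff_eq_mul.1 (hfix a ha p hp)
  refine ⟨A, isCyclic_of_injective T hTinj, ?_, ?_, ?_, ?_, ?_, ?_⟩
  · -- trivial intersection
    rw [eq_bot_iff]
    rintro k ⟨hkA, hkK⟩
    obtain ⟨p, rfl⟩ := exists_inc φ hkK
    have h1 := hτ _ hkA
    rw [act_inc] at h1
    have h3 := conj_eq_one_of_fld h1.symm
    rw [← act_inc φ] at h3
    exact hinj (by rw [h3, map_one])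
  · -- product
    have hsq : ∀ y : Y, y * y ∈ A ⊔ K := by
      intro y
      obtain ⟨g, σ, hg⟩ := exists_sq (act φ y)
      have h1 : (inc φ g)⁻¹ * (y * y) ∈ A := by
        refine ⟨σ, ?_⟩
        show Θ σ = act φ ((inc φ g)⁻¹ * (y * y))
        rw [map_mul, map_inv, map_mul, act_inc, hg, inv_mul_cancel_left]
        rfl
      have h3 : y * y = inc φ g * ((inc φ g)⁻¹ * (y * y)) := by group
      rw [h3]
      exact (A ⊔ K).mul_mem (mem_sup_right (inc_mem φ g)) (mem_sup_left h1)
    rw [eq_top_iff]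
    intro y _
    obtain ⟨n, hn⟩ := hodd
    have h1 : y ^ K.index ∈ K := pow_index_mem K y
    have h3 : (y * y) ^ (n + 1) ∈ A ⊔ K := (A ⊔ K).pow_mem (hsq y) _
    have h5 : y = (y * y) ^ (n + 1) * (y ^ K.index)⁻¹ := by
      rw [hn, ← pow_two, ← pow_mul, show 2 * (n + 1) = 1 + (2 * n + 1) by ring, pow_add, pow_one,
        mul_inv_cancel_right]
    rw [h5]
    exact (A ⊔ K).mul_mem h3 ((A ⊔ K).inv_mem (mem_sup_right h1))
  · -- order
    rw [← hcard]
    exact card_dvd_of_injective T hTinj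
  · -- the element of order 3
    refine ⟨inc φ (pr T3), inc_mem _ _, ?_, hfix' _ fun σ => ?_⟩
    · rw [orderOf_injective _ (inc_injective φ), orderOf_T3]
    · show lift (fld σ) (pr T3) = pr T3
      rw [lift_pr, fld_T3]
  · -- the four-group
    intro hs2
    have h2 : (2 : F) ≠ 0 := by
      intro h0
      have : CharP F s := by
        have h1 : CharP F (ringChar F) := inferInstance
        obtain ⟨p, hp, n, hpp, hn⟩ := FiniteField.card' F
        rw [hF] at hn
        have : s = p := by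
          have h3 : s ∣ p ^ (n : ℕ) := by rw [← hn]; exact dvd_pow_self s (by omega)
          exact (Nat.prime_dvd_prime_iff_eq hs hpp).1 (hs.dvd_of_dvd_pow h3)
        rw [this]
        exact hp
      have h3 : s ∣ 2 := (CharP.cast_eq_zero_iff F s 2).1 (by exact_mod_cast h0)
      exact hs2 ((Nat.prime_dvd_prime_iff_eq hs Nat.prime_two).1 h3)
    obtain ⟨a, b, hab⟩ := exists_sq_add_sq F
    have hσa : ∀ σ : F ≃+* F, σ (a : F) = a := fun σ => map_natCast σ a
    have hσb : ∀ σ : F ≃+* F, σ (b : F) = b := fun σ => map_natCast σ b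
    have H := four h2 hab
    have hI : ∀ σ : F ≃+* F, Θ σ (pr I) = pr I := fun σ => by
      show lift (fld σ) (pr I) = pr I
      rw [lift_pr, fld_I]
    have hJ : ∀ σ : F ≃+* F, Θ σ (pr (J (a : F) b hab)) = pr (J (a : F) b hab) := fun σ => by
      show lift (fld σ) (pr _) = pr _
      rw [lift_pr, fld_J σ hab (hσa σ) (hσb σ)]
    have hH : ∀ σ : F ≃+* F, Θ σ (pr (H3 h2 (a : F) b hab)) = pr (H3 h2 (a : F) b hab) := fun σ => by
      show lift (fld σ) (pr _) = pr _
      rw [lift_pr, fld_H3 h2 σ hab (hσa σ) (hσb σ)]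
    refine ⟨H.U.map (inc φ), inc φ (pr (H3 h2 (a : F) b hab)), ?_, ?_, ?_, inc_mem _ _, ?_, ?_, ?_, hfix' _ hH, ?_⟩
    · exact H.isPGroup.map _
    · intro h0
      have h1 : inc φ (pr I) ∈ H.U.map (inc φ) := mem_map_of_mem _ (Or.inr (Or.inl rfl))
      rw [h0, mem_bot, ← map_one (inc φ)] at h1
      exact H.u1 (inc_injective φ h1)
    · rintro _ ⟨p, -, rfl⟩
      exact inc_mem _ _
    · rw [mem_normalizer_iff]
      intro y
      constructor
      · rintro ⟨p, hp, rfl⟩
        exact ⟨_, H.conj_mem hp, by rw [map_mul, map_mul, map_inv]⟩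
      · rintro ⟨p, hp, hp'⟩
        refine ⟨(pr (H3 h2 (a : F) b hab))⁻¹ * p * pr (H3 h2 (a : F) b hab), ?_, ?_⟩
        · show _ ∈ H.U
          rw [H.conj_mem_iff]
          have : pr (H3 h2 (a : F) b hab) * ((pr (H3 h2 (a : F) b hab))⁻¹ * p * pr (H3 h2 (a : F) b hab)) *
              (pr (H3 h2 (a : F) b hab))⁻¹ = p := by group
          rw [this]
          exact hp
        · rw [map_mul, map_mul, map_inv, hp']
          group
    · rw [orderOf_injective _ (inc_injective φ), orderOf_H3]
    · rw [eq_bot_iff]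
      rintro _ ⟨⟨p, hp, rfl⟩, hpc⟩
      have hpc' := mem_centralizer_singleton_iff.1 hpc
      have h1 : p = 1 := by
        refine H.eq_one_of_comm hp (inc_injective φ ?_)
        rw [map_mul, map_mul, map_inv, ← hpc', mul_inv_cancel_right]
      rw [h1, map_one]
      exact one_mem _
    · intro x hx
      rw [mem_centralizer_iff]
      rintro _ ⟨p, hp, rfl⟩
      have hp' : ∀ σ : F ≃+* F, Θ σ p = p := by
        intro σ
        rcases hp with rfl | rfl | rfl | rfl
        · exact map_one _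
        · exact hI σ
        · exact hJ σ
        · rw [map_mul, hI, hJ]
      exact (mul_inv_eq_iff_eq_mul.1 (hfix x hx p hp')).symm
  · -- fixed points
    intro r hr a ha har
    refine ⟨hs, ?_⟩
    have hσr : orderOf (τ a) = r := by
      have h1 : orderOf (T ⟨a, ha⟩) = orderOf (⟨a, ha⟩ : A) := orderOf_injective T hTinj _
      rw [Subgroup.orderOf_mk, har] at h1
      exact h1
    have hrodd : Odd r := by
      have h1 : r ∣ f := by
        rw [← hcard, ← hσr]
        exact orderOf_dvd_natCard _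
      exact hfodd.of_dvd_nat h1
    have hfin : Fintype (Fix (τ a)) := Fintype.ofFinite _
    refine ⟨Fix (τ a), inferInstance, hfin, ?_, ?_⟩
    · have h1 := card_eq_Fix_pow (τ a)
      rw [hσr, Nat.card_eq_fintype_card, hF, Nat.card_eq_fintype_card] at h1
      have h3 : Fintype.card (Fix (τ a)) ∣ s ^ f := by
        rw [h1]
        exact dvd_pow_self _ hr.ne_zero
      obtain ⟨k, -, hk⟩ := (Nat.dvd_prime_pow hs).1 h3
      rw [hk] at h1 ⊢
      rw [← pow_mul] at h1
      have h5 := Nat.pow_right_injective hs.two_le h1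
      rw [h5, Nat.mul_div_cancel _ hr.pos]
    · let ψ : Matrix.ProjectiveSpecialLinearGroup (Fin 2) (Fix (τ a)) →* Y := (inc φ).comp (pincl (Fix (τ a)))
      have hψ : Function.Injective ψ := (inc_injective φ).comp (pincl_injective _)
      have hrange : ψ.range = K ⊓ centralizer {a} := by
        have hσ1 : τ a ^ r = 1 := by rw [← hσr]; exact pow_orderOf_eq_one _
        have key : ∀ p, lift (fld (τ a)) p = p ↔ inc φ p * a = a * inc φ p := by
          intro p
          have h1 := inc_act φ a p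
          rw [← hτ a ha] at h1
          have h1' : inc φ (lift (fld (τ a)) p) = a * inc φ p * a⁻¹ := h1
          constructor
          · intro h3
            rw [h3] at h1'
            exact (mul_inv_eq_iff_eq_mul.1 h1'.symm).symm
          · intro h3
            apply inc_injective φ
            rw [h1', ← h3, mul_inv_cancel_right]
        ext y
        constructor
        · rintro ⟨x, rfl⟩
          have h1 : pincl (Fix (τ a)) x ∈ (pincl (Fix (τ a))).range := ⟨x, rfl⟩
          rw [mem_range_pincl hrodd hσ1, key] at h1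
          exact ⟨inc_mem _ _, mem_centralizer_singleton_iff.2 h1⟩
        · rintro ⟨hyK, hyc⟩
          obtain ⟨p, rfl⟩ := exists_inc φ hyK
          have h1 := mem_centralizer_singleton_iff.1 hyc
          rw [← key, ← mem_range_pincl hrodd hσ1] at h1
          obtain ⟨x, hx⟩ := h1
          exact ⟨x, by
            show inc φ (pincl (Fix (τ a)) x) = _
            rw [hx]⟩
      exact ⟨((MonoidHom.ofInjective hψ).trans (MulEquiv.subgroupCongr hrange)).symm⟩

end Cfsg.Agent.H389.RSq
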