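import Cfsg.Agent.H984.S3530.LemX
import Cfsg.Agent.H488.S3530.LemX

/-!
# S3530: Lemma X (helper984)
-/

set_option autoImplicit false
set_option linter.unusedSectionVars false
set_option linter.unusedVariables false

namespace Cfsg.Agent.H389.RSq

open Subgroup
open Cfsg.Agent.H389.JSq (Has)

universe u v

section
variable {m : ℕ} {X Y : Type u} [Group X] [Finite X] [Group Y] [Finite Y] {f : X →* Y}
  {D P : Subgroup X} {E : Subgroup Y} {H : Set ℕ → Subgroup X}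

/-- Lemma X -/
theorem lemX {A B P : Subgroup X} {K : Subgroup X} {a b p q : ℕ} (ha : a.Prime) (hb : b.Prime)
    (hab : a ≠ b) (hp : p.Prime) (hq : q.Prime) (hpq : p ≠ q) (hap : a ≠ p) (haq : a ≠ q) (hbp : b ≠ p) (hbq : b ≠ q)
    (hA : IsPGroup a A) (hB : IsPGroup b B) (hAK : A ≤ K) (hBK : B ≤ K)
    (hAi : ¬ a ∣ A.relIndex K) (hBi : ¬ b ∣ B.relIndex K)
    (hK : ∀ r : ℕ, r.Prime → r ∣ Nat.card K → r = a ∨ r = b)
    (hPA : P ≤ normalizer (A : Set X)) (hPB : P ≤ normalizer (B : Set X)) (hPK : P ≤ normalizer (K : Set X))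
    {x : X} (hxP : x ∈ P) (hx : orderOf x = p * q) (hxA : A ⊓ centralizer {x} = ⊥) (hxB : B ⊓ centralizer {x} = ⊥)
    (hP : ∀ C ≤ P, (∀ g ∈ P, g * x ^ p * g⁻¹ ∈ C ∨ g * x ^ q * g⁻¹ ∈ C) → C = P) : A ≤ centralizer (B : Set X) :=
  lemX_of_core (fun {Γ} _ _ {V A P a b p q} h1 h2 h3 h4 h5 h6 h7 h8 h9 h10 h11 h12 h13 h14 h15 h16 h17 h18 h19 h20
      {x} h21 h22 h23 h24 h25 =>
    lemX_core h1 h2 h3 h4 h5 h6 h7 h8 h9 h10 h11 h12 h13 h14 h15 h16 h17 h18 h19 h20 h21 h22 h23 h24 h25)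
    ha hb hab hp hq hpq hap haq hbp hbq hA hB hAK hBK hAi hBi hK hPA hPB hPK hxP hx hxA hxB hP

end

end Cfsg.Agent.H389.RSq
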