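import Cfsg.Agent.H984.S3530.LemXStep
import Cfsg.Agent.TwoFusion.GoldControl
import Cfsg.Agent.S0144

/-!
# S3530, Lemma X: application
-/

set_option autoImplicit false
set_option linter.unusedSectionVars false

namespace Cfsg.Agent.H984.S3530.LemX

open Subgroup
open scoped commutatorElement

universe u

variable {X : Type u} [Group X] [Finite X]

/-- an `a`-element of a central product of an `a`-group and a `b`-group -/
theorem right_eq_one {a b : ℕ} (ha : a.Prime) (hb : b.Prime) (hab : a ≠ b) {S W : Subgroup X} (hS : IsPGroup a S)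
    (hW : IsPGroup b W) {s w : X} (hs : s ∈ S) (hw : w ∈ W) (hc : Commute s w) {n : ℕ} (h : (s * w) ^ a ^ n = 1) :
    w = 1 := by
  rw [hc.mul_pow] at h
  have h1 : w ^ a ^ n ∈ S := by
    rw [← inv_eq_of_mul_eq_one_right h]
    exact S.inv_mem (S.pow_mem hs _)
  have h2 := inf_eq_bot ha hb hab hS hW h1 (W.pow_mem hw _)
  obtain ⟨m, hm⟩ := hW ⟨w, hw⟩
  have hm' : w ^ b ^ m = 1 := congrArg Subtype.val hm
  have h3 := Nat.dvd_gcd (orderOf_dvd_of_pow_eq_one h2) (orderOf_dvd_of_pow_eq_one hm')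
  have h4 : Nat.gcd (a ^ n) (b ^ m) = 1 := Nat.Coprime.pow n m ((Nat.coprime_primes ha hb).2 hab)
  rw [h4, Nat.dvd_one, orderOf_eq_one_iff] at h3
  exact h3

theorem exists_mul {S W : Subgroup X} (h : S ≤ centralizer (W : Set X)) {z : X} (hz : z ∈ S ⊔ W) :
    ∃ s ∈ S, ∃ w ∈ W, Commute s w ∧ z = s * w := by
  have h1 : z ∈ ((S ⊔ W : Subgroup X) : Set X) := hz
  rw [coe_mul_of_left_le_normalizer_right _ _ (h.trans (centralizer_le_normalizer _))] at h1
  obtain ⟨s, hs, w, hw, rfl⟩ := Set.mem_mul.1 h1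
  exact ⟨s, hs, w, hw, ((mem_centralizer_iff.1 (h hs)) w hw).symm, rfl⟩

theorem le_sup_of {a b : ℕ} {D S W : Subgroup X} (hSi : ¬ a ∣ S.relIndex D) (hWi : ¬ b ∣ W.relIndex D)
    (hD : ∀ r : ℕ, r.Prime → r ∣ Nat.card D → r = a ∨ r = b) : D ≤ S ⊔ W := by
  rw [← relIndex_eq_one]
  by_contra hne
  obtain ⟨r, hr, hrd⟩ := Nat.exists_prime_and_dvd hne
  rcases hD r hr (hrd.trans (relIndex_dvd_card _ _)) with rfl | rfl
  · exact hSi (hrd.trans (relIndex_dvd_of_le_left D le_sup_left))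
  · exact hWi (hrd.trans (relIndex_dvd_of_le_left D le_sup_right))

theorem solvable_of {a b : ℕ} (ha : a.Prime) (hb : b.Prime) {K : Subgroup X}
    (hK : ∀ r : ℕ, r.Prime → r ∣ Nat.card K → r = a ∨ r = b) (hab : a ≠ b) : Group.IsSolvable K := by
  refine Cfsg.Agent.S0144.result a b ((Nat.card K).factorization a) ((Nat.card K).factorization b) ha hb ?_
  have h0 : Nat.card K ≠ 0 := Nat.card_pos.ne'
  have h1 := Nat.prod_factorization_pow_eq_self h0
  have hsub : (Nat.card K).factorization.support ⊆ {a, b} := by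
    intro r hr
    rw [Nat.support_factorization, Nat.mem_primeFactors] at hr
    rcases hK r hr.1 hr.2.1 with h | h
    · simp [h]
    · simp [h]
  rw [Finsupp.prod_of_support_subset _ hsub _ (fun i _ => pow_zero i), Finset.prod_pair hab] at h1
  exact h1.symm

theorem main (hcore : Core.{u}) {P : Subgroup X} {a b p q : ℕ} (ha : a.Prime) (hb : b.Prime)
    (hab : a ≠ b) (hp : p.Prime) (hq : q.Prime) (hpq : p ≠ q) (hap : a ≠ p) (haq : a ≠ q) (hbp : b ≠ p) (hbq : b ≠ q)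
    {x : X} (hxP : x ∈ P) (hx : orderOf x = p * q)
    (hP : ∀ C ≤ P, (∀ g ∈ P, g * x ^ p * g⁻¹ ∈ C ∨ g * x ^ q * g⁻¹ ∈ C) → C = P) (n : ℕ) :
    ∀ K A B : Subgroup X, Nat.card K ≤ n → IsPGroup a A → IsPGroup b B → A ≤ K → B ≤ K →
    ¬ a ∣ A.relIndex K → ¬ b ∣ B.relIndex K → (∀ r : ℕ, r.Prime → r ∣ Nat.card K → r = a ∨ r = b) →
    P ≤ normalizer (A : Set X) → P ≤ normalizer (B : Set X) → P ≤ normalizer (K : Set X) →
    A ⊓ centralizer {x} = ⊥ → B ⊓ centralizer {x} = ⊥ → A ≤ centralizer (B : Set X) := by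
  induction n with
  | zero =>
    intro K A B h
    exact absurd h (by have := Nat.card_pos (α := K); omega)
  | succ n ih =>
    intro K A B hn hA hB hAK hBK hAi hBi hK hPA hPB hPK hxA hxB
    by_cases hK0 : K = ⊥
    · intro α hα
      have h1 := hAK hα
      rw [hK0, mem_bot] at h1
      rw [h1]
      exact one_mem _
    have hsol := solvable_of ha hb hK hab
    have hnt : Nontrivial K := (nontrivial_iff_ne_bot _).2 hK0
    have hlt := Group.IsSolvable.commutator_lt_top_of_nontrivial K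
    obtain ⟨D, hD⟩ : ∃ D : Subgroup X, D = (commutator K).map K.subtype := ⟨_, rfl⟩
    have hDK : D ≤ K := by rw [hD]; exact map_subtype_le _
    have hDlt : Nat.card D < Nat.card K := by
      rw [hD, card_map_of_injective K.subtype_injective]
      exact Nat.lt_of_le_of_ne (card_le_card_group _) (fun h => hlt.ne (eq_top_of_card_eq _ h))
    have hDnorm : ∀ H : Subgroup X, H ≤ normalizer (K : Set X) → H ≤ normalizer (D : Set X) := by
      intro H hH
      rw [hD]
      exact Cfsg.Agent.S1288.le_normalizer_map_of_characteristic hH _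
    have hKD : K ≤ normalizer (D : Set X) := hDnorm K le_normalizer
    have hcommD : ∀ k ∈ K, ∀ l ∈ K, k * l * k⁻¹ * l⁻¹ ∈ D := by
      intro k hk l hl
      rw [hD]
      exact ⟨⁅⟨k, hk⟩, ⟨l, hl⟩⁆, commutator_mem_commutator (mem_top _) (mem_top _), rfl⟩
    have hDp : ∀ r : ℕ, r.Prime → r ∣ Nat.card D → r = a ∨ r = b := fun r hr hrd =>
      hK r hr (hrd.trans (card_dvd_of_le hDK))
    have hADi : ¬ a ∣ (A ⊓ D).relIndex D :=
      Cfsg.Agent.TwoFusion.GoldControl.not_dvd_relIndex_of_normal hDK hKD (by rwa [inf_eq_left.2 hAK])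
    have hBDi : ¬ b ∣ (B ⊓ D).relIndex D :=
      Cfsg.Agent.TwoFusion.GoldControl.not_dvd_relIndex_of_normal hDK hKD (by rwa [inf_eq_left.2 hBK])
    have hPD := hDnorm P hPK
    have hPAD : P ≤ normalizer ((A ⊓ D : Subgroup X) : Set X) := fun g hg =>
      mem_normalizer_of fun z hz => ⟨conj_mem (hPA hg) hz.1, conj_mem (hPD hg) hz.2⟩
    have hPBD : P ≤ normalizer ((B ⊓ D : Subgroup X) : Set X) := fun g hg =>
      mem_normalizer_of fun z hz => ⟨conj_mem (hPB hg) hz.1, conj_mem (hPD hg) hz.2⟩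
    have hAD : IsPGroup a (A ⊓ D : Subgroup X) := hA.to_le inf_le_left
    have hBD : IsPGroup b (B ⊓ D : Subgroup X) := hB.to_le inf_le_left
    have hxAD : (A ⊓ D) ⊓ centralizer {x} = ⊥ := by
      rw [eq_bot_iff, ← hxA]
      exact inf_le_inf_right _ inf_le_left
    have hxBD : (B ⊓ D) ⊓ centralizer {x} = ⊥ := by
      rw [eq_bot_iff, ← hxB]
      exact inf_le_inf_right _ inf_le_left
    have hcD := ih D (A ⊓ D) (B ⊓ D) (by omega) hAD hBD inf_le_right inf_le_right hADi hBDi hDp hPAD hPBD hPD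
      hxAD hxBD
    have hDle : D ≤ (A ⊓ D) ⊔ (B ⊓ D) := le_sup_of hADi hBDi hDp
    have hcD' : B ⊓ D ≤ centralizer ((A ⊓ D : Subgroup X) : Set X) := le_centralizer_iff.1 hcD
    -- `K` normalises the two Sylow subgroups of `D`
    have hKAD : K ≤ normalizer ((A ⊓ D : Subgroup X) : Set X) := by
      intro k hk
      refine mem_normalizer_of fun z hz => ?_
      have h1 : k * z * k⁻¹ ∈ (B ⊓ D) ⊔ (A ⊓ D) := by
        rw [sup_comm]
        exact hDle (conj_mem (hKD hk) hz.2)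
      obtain ⟨β, hβ, α, hα, hc, he⟩ := exists_mul hcD' h1
      obtain ⟨m, hm⟩ := hA ⟨z, hz.1⟩
      have hm' : z ^ a ^ m = 1 := congrArg Subtype.val hm
      have h2 : (α * β) ^ a ^ m = 1 := by
        rw [← hc.eq, ← he, conj_pow, hm', mul_one, mul_inv_cancel]
      have h3 := right_eq_one ha hb hab hAD hBD hα hβ hc.symm h2
      rw [he, h3, one_mul]
      exact hα
    have hKBD : K ≤ normalizer ((B ⊓ D : Subgroup X) : Set X) := by
      intro k hk
      refine mem_normalizer_of fun z hz => ?_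
      have h1 : k * z * k⁻¹ ∈ (A ⊓ D) ⊔ (B ⊓ D) := hDle (conj_mem (hKD hk) hz.2)
      obtain ⟨α, hα, β, hβ, hc, he⟩ := exists_mul hcD h1
      obtain ⟨m, hm⟩ := hB ⟨z, hz.1⟩
      have hm' : z ^ b ^ m = 1 := congrArg Subtype.val hm
      have h2 : (β * α) ^ b ^ m = 1 := by
        rw [← hc.eq, ← he, conj_pow, hm', mul_one, mul_inv_cancel]
      have h3 := right_eq_one hb ha hab.symm hBD hAD hβ hα hc.symm h2
      rw [he, h3, one_mul]
      exact hβ
    -- the two-step case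
    have s1 : A ≤ centralizer ((B ⊓ D : Subgroup X) : Set X) :=
      step hcore ha hb hab hp hq hpq hap haq hbp hbq hA hBD (hAK.trans hKBD) hPA hPBD hxP hx hxA hxBD hP
    have s2 : B ≤ centralizer ((A ⊓ D : Subgroup X) : Set X) :=
      step hcore hb ha hab.symm hp hq hpq hbp hbq hap haq hB hAD (hBK.trans hKAD) hPB hPAD hxP hx hxB hxAD hP
    -- `A` and `B` are normal in `K`
    have nA : K ≤ normalizer (A : Set X) := by
      intro k hk
      refine mem_normalizer_of fun z hz => ?_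
      have h1 : k * z * k⁻¹ ∈ A ⊔ (B ⊓ D) := by
        have e : k * z * k⁻¹ = (k * z * k⁻¹ * z⁻¹) * z := by group
        rw [e]
        refine mul_mem ?_ (mem_sup_left hz)
        have h6 : (A ⊓ D) ⊔ (B ⊓ D) ≤ A ⊔ (B ⊓ D) := sup_le_sup inf_le_left le_rfl
        exact h6 (hDle (hcommD k hk z (hAK hz)))
      obtain ⟨α, hα, β, hβ, hc, he⟩ := exists_mul s1 h1
      obtain ⟨m, hm⟩ := hA ⟨z, hz⟩
      have hm' : z ^ a ^ m = 1 := congrArg Subtype.val hm
      have h2 : (α * β) ^ a ^ m = 1 := by rw [← he, conj_pow, hm', mul_one, mul_inv_cancel]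
      have h3 := right_eq_one ha hb hab hA hBD hα hβ hc h2
      rw [he, h3, mul_one]
      exact hα
    have nB : K ≤ normalizer (B : Set X) := by
      intro k hk
      refine mem_normalizer_of fun z hz => ?_
      have h1 : k * z * k⁻¹ ∈ B ⊔ (A ⊓ D) := by
        have e : k * z * k⁻¹ = (k * z * k⁻¹ * z⁻¹) * z := by group
        rw [e]
        refine mul_mem ?_ (mem_sup_left hz)
        have h5 := hDle (hcommD k hk z (hBK hz))
        rw [sup_comm] at h5
        have h6 : (B ⊓ D) ⊔ (A ⊓ D) ≤ B ⊔ (A ⊓ D) := sup_le_sup inf_le_left le_rfl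
        exact h6 h5
      obtain ⟨β, hβ, α, hα, hc, he⟩ := exists_mul s2 h1
      obtain ⟨m, hm⟩ := hB ⟨z, hz⟩
      have hm' : z ^ b ^ m = 1 := congrArg Subtype.val hm
      have h2 : (β * α) ^ b ^ m = 1 := by rw [← he, conj_pow, hm', mul_one, mul_inv_cancel]
      have h3 := right_eq_one hb ha hab.symm hB hAD hβ hα hc h2
      rw [he, h3, mul_one]
      exact hβ
    intro α hα
    rw [mem_centralizer_iff]
    intro β hβ
    have h1 : β * α * β⁻¹ * α⁻¹ ∈ A := A.mul_mem (conj_mem (nA (hBK hβ)) hα) (A.inv_mem hα)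
    have h2 : β * α * β⁻¹ * α⁻¹ ∈ B := by
      have e : β * α * β⁻¹ * α⁻¹ = β * (α * β⁻¹ * α⁻¹) := by group
      rw [e]
      exact B.mul_mem hβ (conj_mem (nB (hAK hα)) (B.inv_mem hβ))
    have h3 := inf_eq_bot ha hb hab hA hB h1 h2
    have h4 : β * α * (α * β)⁻¹ = 1 := by rw [← h3]; group
    exact mul_inv_eq_one.1 h4

end Cfsg.Agent.H984.S3530.LemX

namespace Cfsg.Agent.H389.RSq

open Subgroup
open Cfsg.Agent.H389.JSq (Has)

universe u v

variable {m : ℕ} {X Y : Type u} [Group X] [Finite X] [Group Y] [Finite Y] {f : X →* Y} {D P : Subgroup X}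
  {E : Subgroup Y} {H : Set ℕ → Subgroup X}

/-- Lemma X, from the core lemma -/
theorem lemX_of_core (hcore : Cfsg.Agent.H984.S3530.LemX.Core.{u}) {A B P : Subgroup X} {K : Subgroup X} {a b p q : ℕ}
    (ha : a.Prime) (hb : b.Prime)
    (hab : a ≠ b) (hp : p.Prime) (hq : q.Prime) (hpq : p ≠ q) (hap : a ≠ p) (haq : a ≠ q) (hbp : b ≠ p) (hbq : b ≠ q)
    (hA : IsPGroup a A) (hB : IsPGroup b B) (hAK : A ≤ K) (hBK : B ≤ K)
    (hAi : ¬ a ∣ A.relIndex K) (hBi : ¬ b ∣ B.relIndex K)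
    (hK : ∀ r : ℕ, r.Prime → r ∣ Nat.card K → r = a ∨ r = b)
    (hPA : P ≤ normalizer (A : Set X)) (hPB : P ≤ normalizer (B : Set X)) (hPK : P ≤ normalizer (K : Set X))
    {x : X} (hxP : x ∈ P) (hx : orderOf x = p * q) (hxA : A ⊓ centralizer {x} = ⊥) (hxB : B ⊓ centralizer {x} = ⊥)
    (hP : ∀ C ≤ P, (∀ g ∈ P, g * x ^ p * g⁻¹ ∈ C ∨ g * x ^ q * g⁻¹ ∈ C) → C = P) : A ≤ centralizer (B : Set X) :=
  Cfsg.Agent.H984.S3530.LemX.main hcore ha hb hab hp hq hpq hap haq hbp hbq hxP hx hP (Nat.card K) K A B le_rfl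
    hA hB hAK hBK hAi hBi hK hPA hPB hPK hxA hxB

end Cfsg.Agent.H389.RSq
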